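import Mathlib
import Groth.Prelude.Def_FEt
import Groth.Agent.Lib.Helper7.FEtDesc.Main
import Groth.Agent.Lib.Helper7.FEtLoc.Main
import Groth.Agent.Lib.Helper7.Hensel.StrictPoints
import Groth.Agent.Lib.Helper9.FE.ClopenCrit

/-! helper7: for a proper flat finitely presented family over a strictly henselian local ring with
connected reduced geometric fibres, restriction of finite étale covers to any geometric fibre is
fully faithful (through the finite étale Stein factorization of a cover and the sections of a finite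
étale scheme over a strictly henselian local ring) -/

open CategoryTheory CategoryTheory.Limits AlgebraicGeometry TopologicalSpace

universe u

set_option linter.style.haveILetI false
set_option linter.unusedVariables false
set_option linter.unusedSectionVars false
set_option autoImplicit false
set_option backward.isDefEq.respectTransparency.types false
set_option synthInstance.maxHeartbeats 400000
set_option maxHeartbeats 1600000

namespace Groth.Agent.Helper7.FEtGeomFib

open Groth.Agent.Helper7.GeomConn Groth.Agent.Helper7.EtH0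

section Local

/-- the spectrum of a local ring is preconnected -/
theorem preconnectedSpace_spec_of_isLocalRing (A : Type u) [CommRing A] [IsLocalRing A] :
    PreconnectedSpace ↥(Spec (CommRingCat.of A)) := by
  rw [preconnectedSpace_iff_clopen]
  intro s hs
  by_cases h : IsLocalRing.closedPoint A ∈ s
  · right
    rw [Set.eq_univ_iff_forall]
    intro x
    exact (IsLocalRing.specializes_closedPoint (R := A) x).mem_open hs.2 h
  · left
    rw [Set.eq_empty_iff_forall_notMem]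
    intro x hx
    exact h ((IsLocalRing.specializes_closedPoint (R := A) x).mem_closed hs.1 hx)

/-- every point of a finite étale scheme over a strictly henselian local ring lies in the image
of a section -/
theorem exists_section_mem (A : Type u) [CommRing A] [HenselianLocalRing A]
    [IsSepClosed (IsLocalRing.ResidueField A)] {S' : Scheme.{u}}
    (ν : S' ⟶ Spec (CommRingCat.of A)) [IsFinite ν] [Etale ν] (s' : S') :
    ∃ σ : Spec (CommRingCat.of A) ⟶ S', σ ≫ ν = 𝟙 _ ∧ s' ∈ Set.range σ := by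
  haveI : IsAffine S' := isAffine_of_isAffineHom ν
  obtain ⟨s₀, hs₀mem, hs₀cl⟩ := (isClosed_closure (s := ({s'} : Set S'))).exists_closed_singleton
    ⟨s', subset_closure rfl⟩
  have hspec : s' ⤳ s₀ := specializes_iff_mem_closure.mpr hs₀mem
  have hν₀ : ν s₀ = IsLocalRing.closedPoint A :=
    Groth.Agent.Helper7.FEtLoc.apply_eq_closedPoint A ν s₀ hs₀cl
  obtain ⟨ν', hν'⟩ : ∃ ν' : Spec Γ(S', ⊤) ⟶ Spec (CommRingCat.of A), ν' = S'.isoSpec.inv ≫ ν :=
    ⟨_, rfl⟩
  obtain ⟨ρ, hρ⟩ : ∃ ρ : CommRingCat.of A ⟶ Γ(S', ⊤), Spec.map ρ = ν' :=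
    ⟨Spec.preimage ν', Spec.map_preimage ν'⟩
  haveI : Etale ν' := by rw [hν']; infer_instance
  have hρet : ρ.hom.Etale := by
    haveI : Etale (Spec.map ρ) := by rw [hρ]; infer_instance
    exact (HasRingHomProperty.Spec_iff (P := @Etale)).1 inferInstance
  letI : Algebra A Γ(S', ⊤) := ρ.hom.toAlgebra
  haveI : Algebra.Etale A Γ(S', ⊤) := RingHom.etale_algebraMap.1 hρet
  obtain ⟨x₀, hx₀⟩ : ∃ x₀ : ↥(Spec Γ(S', ⊤)), x₀ = S'.isoSpec.hom s₀ := ⟨_, rfl⟩
  have hinvx₀ : S'.isoSpec.inv x₀ = s₀ := by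
    rw [hx₀, ← Scheme.Hom.comp_apply, Iso.hom_inv_id]
    try rfl
  have hνx₀ : (Spec.map ρ) x₀ = IsLocalRing.closedPoint A := by
    rw [hρ, hν', Scheme.Hom.comp_apply, hinvx₀]
    exact hν₀
  have hcomap : Ideal.comap (algebraMap A Γ(S', ⊤)) x₀.asIdeal = IsLocalRing.maximalIdeal A :=
    congrArg PrimeSpectrum.asIdeal hνx₀
  haveI hprime : x₀.asIdeal.IsPrime := x₀.isPrime
  haveI : IsScalarTower A Γ(S', ⊤) (Localization.AtPrime x₀.asIdeal) := inferInstance
  haveI : IsLocalHom (algebraMap A (Localization.AtPrime x₀.asIdeal)) := by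
    constructor
    intro r hr
    by_contra hnu
    have h1 : r ∈ IsLocalRing.maximalIdeal A := (IsLocalRing.mem_maximalIdeal r).mpr hnu
    rw [← hcomap] at h1
    have h2 : algebraMap A Γ(S', ⊤) r ∈ x₀.asIdeal := h1
    have h3 : algebraMap Γ(S', ⊤) (Localization.AtPrime x₀.asIdeal) (algebraMap A Γ(S', ⊤) r) ∈
        IsLocalRing.maximalIdeal (Localization.AtPrime x₀.asIdeal) :=
      (IsLocalization.AtPrime.to_map_mem_maximal_iff (Localization.AtPrime x₀.asIdeal)
        x₀.asIdeal _).mpr h2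
    rw [← IsScalarTower.algebraMap_apply A Γ(S', ⊤) (Localization.AtPrime x₀.asIdeal) r] at h3
    exact (IsLocalRing.mem_maximalIdeal _).mp h3 hr
  obtain ⟨τ, hτ⟩ := (Groth.Agent.Helper7.Hensel.bijective_comp_ofId A
    (Localization.AtPrime x₀.asIdeal) Γ(S', ⊤)).2
    (IsScalarTower.toAlgHom A Γ(S', ⊤) (Localization.AtPrime x₀.asIdeal))
  have hτb : ∀ b : Γ(S', ⊤), algebraMap A (Localization.AtPrime x₀.asIdeal) (τ b) =
      algebraMap Γ(S', ⊤) (Localization.AtPrime x₀.asIdeal) b := by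
    intro b
    have h0 := AlgHom.congr_fun hτ b
    exact h0
  have hτcomap : Ideal.comap τ.toRingHom (IsLocalRing.maximalIdeal A) = x₀.asIdeal := by
    ext b
    rw [Ideal.mem_comap]
    constructor
    · intro hb
      have hb' : τ b ∈ IsLocalRing.maximalIdeal A := hb
      have h2 : algebraMap A (Localization.AtPrime x₀.asIdeal) (τ b) ∈
          IsLocalRing.maximalIdeal (Localization.AtPrime x₀.asIdeal) := by
        rw [IsLocalRing.mem_maximalIdeal]
        intro hu
        exact (IsLocalRing.mem_maximalIdeal _).mp hb'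
          (isUnit_of_map_unit (algebraMap A (Localization.AtPrime x₀.asIdeal)) _ hu)
      rw [hτb b] at h2
      exact (IsLocalization.AtPrime.to_map_mem_maximal_iff (Localization.AtPrime x₀.asIdeal)
        x₀.asIdeal b).mp h2
    · intro hb
      have h2 := (IsLocalization.AtPrime.to_map_mem_maximal_iff
        (Localization.AtPrime x₀.asIdeal) x₀.asIdeal b).mpr hb
      rw [← hτb b] at h2
      show τ b ∈ IsLocalRing.maximalIdeal A
      rw [IsLocalRing.mem_maximalIdeal]
      intro hu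
      exact (IsLocalRing.mem_maximalIdeal _).mp h2
        (hu.map (algebraMap A (Localization.AtPrime x₀.asIdeal)))
  obtain ⟨τ', hτ'⟩ : ∃ τ' : Γ(S', ⊤) ⟶ CommRingCat.of A, τ' = CommRingCat.ofHom τ.toRingHom :=
    ⟨_, rfl⟩
  have hρτ : ρ ≫ τ' = 𝟙 _ := by
    rw [hτ']
    ext r
    exact τ.commutes r
  obtain ⟨σ, hσ⟩ : ∃ σ : Spec (CommRingCat.of A) ⟶ S', σ = Spec.map τ' ≫ S'.isoSpec.inv :=
    ⟨_, rfl⟩
  have hσν : σ ≫ ν = 𝟙 _ := by
    rw [hσ, Category.assoc, ← hν', ← hρ, ← Spec.map_comp, hρτ, Spec.map_id]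
  refine ⟨σ, hσν, ?_⟩
  haveI : Etale (σ ≫ ν) := by rw [hσν]; infer_instance
  haveI : Etale σ := Etale.of_comp σ ν
  have hopen : IsOpen (Set.range σ) := σ.isOpenMap.isOpen_range
  have hmem : s₀ ∈ Set.range σ := by
    refine ⟨IsLocalRing.closedPoint A, ?_⟩
    rw [hσ, Scheme.Hom.comp_apply]
    have h1 : (Spec.map τ') (IsLocalRing.closedPoint A) = x₀ := by
      apply PrimeSpectrum.ext
      rw [hτ']
      exact hτcomap
    rw [h1, hinvx₀]
  exact hspec.mem_open hopen hmem

end Local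

section Fibre

/-- the preimage, in a geometric fibre, of the image of a section of the finite part of a
factorization with geometrically connected first part is preconnected -/
theorem isPreconnected_preimage_range {Y S S' P : Scheme.{u}} (Ω : Type u) [Field Ω]
    (π : Y ⟶ S') (ν : S' ⟶ S) [GeometricallyConnected π] (t : Spec (CommRingCat.of Ω) ⟶ S)
    (φ : P ⟶ Y) (ψ : P ⟶ Spec (CommRingCat.of Ω)) (hP : IsPullback φ ψ (π ≫ ν) t)
    (σ : S ⟶ S') (hσ : σ ≫ ν = 𝟙 S) :
    _root_.IsPreconnected ((φ ≫ π) ⁻¹' Set.range σ) := by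
  obtain ⟨ζ₁, hζ₁⟩ : ∃ ζ₁ : pullback π σ ⟶ Y, ζ₁ = pullback.fst π σ := ⟨_, rfl⟩
  obtain ⟨ζ₂, hζ₂⟩ : ∃ ζ₂ : pullback π σ ⟶ S, ζ₂ = pullback.snd π σ := ⟨_, rfl⟩
  haveI : GeometricallyConnected ζ₂ := by rw [hζ₂]; infer_instance
  have hcond : ζ₁ ≫ π = ζ₂ ≫ σ := by rw [hζ₁, hζ₂]; exact pullback.condition
  have hζ : ζ₁ ≫ π ≫ ν = ζ₂ := by
    rw [← Category.assoc, hcond, Category.assoc, hσ, Category.comp_id]
  haveI hW : ConnectedSpace ↥(pullback ζ₂ t) :=
    GeometricallyConnected.geometrically_connectedSpace (f := ζ₂) t _ _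
      (IsPullback.of_hasPullback ζ₂ t)
  obtain ⟨w₁, hw₁⟩ : ∃ w₁ : pullback ζ₂ t ⟶ pullback π σ, w₁ = pullback.fst ζ₂ t := ⟨_, rfl⟩
  obtain ⟨w₂, hw₂⟩ : ∃ w₂ : pullback ζ₂ t ⟶ Spec (CommRingCat.of Ω), w₂ = pullback.snd ζ₂ t :=
    ⟨_, rfl⟩
  have hWpb : IsPullback w₁ w₂ ζ₂ t := by
    rw [hw₁, hw₂]; exact IsPullback.of_hasPullback ζ₂ t
  have hwcond : (w₁ ≫ ζ₁) ≫ (π ≫ ν) = w₂ ≫ t := by
    rw [Category.assoc, hζ]; exact hWpb.w
  obtain ⟨κ, hκ⟩ : ∃ κ : pullback ζ₂ t ⟶ P, κ = hP.lift (w₁ ≫ ζ₁) w₂ hwcond := ⟨_, rfl⟩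
  have hκφ : κ ≫ φ = w₁ ≫ ζ₁ := by rw [hκ]; exact hP.lift_fst _ _ _
  have hκψ : κ ≫ ψ = w₂ := by rw [hκ]; exact hP.lift_snd _ _ _
  have houter : IsPullback (κ ≫ ψ) w₁ t (ζ₁ ≫ (π ≫ ν)) := by
    rw [hκψ, hζ]; exact hWpb.flip
  have hleft : IsPullback κ w₁ φ ζ₁ := IsPullback.of_right houter hκφ hP.flip
  have hrange : (φ ≫ π) ⁻¹' Set.range σ = Set.range κ := by
    ext a
    constructor
    · intro ha
      have h1 : φ a ∈ π ⁻¹' Set.range σ := by
        show π (φ a) ∈ Set.range σ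
        rw [← Scheme.Hom.comp_apply]; exact ha
      have h1' : φ a ∈ Set.range (pullback.fst π σ) := by
        rw [Scheme.Pullback.range_fst]; exact h1
      rw [← hζ₁] at h1'
      obtain ⟨z, hz⟩ := h1'
      obtain ⟨w, hw1, hw2⟩ := Scheme.exists_preimage_of_isPullback hleft a z hz.symm
      exact ⟨w, hw1⟩
    · rintro ⟨w, rfl⟩
      have h2 : κ ≫ φ ≫ π = w₁ ≫ ζ₂ ≫ σ := by
        rw [← Category.assoc, hκφ, Category.assoc, hcond]
      have h3 := congrArg (fun m : pullback ζ₂ t ⟶ S' => m w) h2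
      simp only [Scheme.Hom.comp_apply] at h3
      refine ⟨ζ₂ (w₁ w), ?_⟩
      rw [Scheme.Hom.comp_apply]
      exact h3.symm
  rw [hrange]
  exact isPreconnected_range κ.continuous

/-- a clopen subset of the total space containing a whole geometric fibre is everything -/
theorem clopen_inj_aux (A : Type u) [CommRing A] [IsLocalRing A] {Y P : Scheme.{u}}
    (Ω : Type u) [Field Ω] (h : Y ⟶ Spec (CommRingCat.of A)) [UniversallyClosed h]
    [UniversallyOpen h] (t : Spec (CommRingCat.of Ω) ⟶ Spec (CommRingCat.of A))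
    (φ : P ⟶ Y) (ψ : P ⟶ Spec (CommRingCat.of Ω)) (hP : IsPullback φ ψ h t)
    (T : Set Y) (hT : IsClopen T) (hpre : φ ⁻¹' T = Set.univ) : T = Set.univ := by
  haveI := preconnectedSpace_spec_of_isLocalRing A
  obtain ⟨pt⟩ : Nonempty ↥(Spec (CommRingCat.of Ω)) :=
    (inferInstance : Nonempty (PrimeSpectrum Ω))
  have hR : Tᶜ = ∅ := by
    refine Groth.Agent.Helper7.FEtDesc.eq_empty_of_clopen_of_fibre h h.isClosedMap h.isOpenMap
      Tᶜ hT.compl (t pt) ?_
    intro r hr hrt
    obtain ⟨p, hp1, hp2⟩ := Scheme.exists_preimage_of_isPullback hP r pt hrt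
    have h1 : p ∈ φ ⁻¹' T := by rw [hpre]; trivial
    have h2 : φ p ∈ T := h1
    rw [show φ p = r from hp1] at h2
    exact hr h2
  exact Set.compl_empty_iff.mp hR

/-- every clopen subset of a geometric fibre of the total space comes from the total space -/
theorem clopen_surj_aux (A : Type u) [CommRing A] [HenselianLocalRing A]
    [IsSepClosed (IsLocalRing.ResidueField A)] {Y S' P : Scheme.{u}} (Ω : Type u) [Field Ω]
    (π : Y ⟶ S') (ν : S' ⟶ Spec (CommRingCat.of A)) [IsFinite ν] [Etale ν]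
    [GeometricallyConnected π] (t : Spec (CommRingCat.of Ω) ⟶ Spec (CommRingCat.of A))
    (φ : P ⟶ Y) (ψ : P ⟶ Spec (CommRingCat.of Ω)) (hP : IsPullback φ ψ (π ≫ ν) t)
    (T' : Set P) (hT' : IsClopen T') : ∃ T : Set Y, IsClopen T ∧ φ ⁻¹' T = T' := by
  obtain ⟨F, hF⟩ : ∃ F : Set P → Set Y, ∀ (V : Set P) (y : Y), y ∈ F V ↔
      ∃ σ : Spec (CommRingCat.of A) ⟶ S', σ ≫ ν = 𝟙 _ ∧ π y ∈ Set.range σ ∧
        (φ ≫ π) ⁻¹' Set.range σ ⊆ V :=
    ⟨fun V => {y | ∃ σ : Spec (CommRingCat.of A) ⟶ S', σ ≫ ν = 𝟙 _ ∧ π y ∈ Set.range σ ∧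
        (φ ≫ π) ⁻¹' Set.range σ ⊆ V}, fun V y => Iff.rfl⟩
  have hopen : ∀ V : Set P, IsOpen (F V) := by
    intro V
    rw [isOpen_iff_forall_mem_open]
    intro y hy
    obtain ⟨σ, hσ, hyσ, hV⟩ := (hF V y).mp hy
    haveI : Etale (σ ≫ ν) := by rw [hσ]; infer_instance
    haveI : Etale σ := Etale.of_comp σ ν
    refine ⟨π ⁻¹' Set.range σ, ?_, σ.isOpenMap.isOpen_range.preimage π.continuous, hyσ⟩
    intro y' hy'
    exact (hF V y').mpr ⟨σ, hσ, hy', hV⟩
  have hcover : ∀ y : Y, y ∈ F T' ∨ y ∈ F T'ᶜ := by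
    intro y
    obtain ⟨σ, hσ, hmem⟩ := exists_section_mem A ν (π y)
    have hpc := isPreconnected_preimage_range Ω π ν t φ ψ hP σ hσ
    by_cases hne : ((φ ≫ π) ⁻¹' Set.range σ ∩ T').Nonempty
    · exact Or.inl ((hF T' y).mpr ⟨σ, hσ, hmem, hpc.subset_isClopen hT' hne⟩)
    · refine Or.inr ((hF T'ᶜ y).mpr ⟨σ, hσ, hmem, ?_⟩)
      intro a ha haT
      exact hne ⟨a, ha, haT⟩
  have hdisj : ∀ y : Y, y ∈ F T' → y ∈ F T'ᶜ → False := by
    intro y hy1 hy2
    obtain ⟨σ, hσ, hy, hV⟩ := (hF T' y).mp hy1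
    obtain ⟨σ', hσ', hy', hV'⟩ := (hF T'ᶜ y).mp hy2
    haveI : Etale (σ' ≫ ν) := by rw [hσ']; infer_instance
    haveI : Etale σ' := Etale.of_comp σ' ν
    haveI : IsClosedImmersion (σ' ≫ ν) := by rw [hσ']; infer_instance
    haveI : IsClosedImmersion σ' := IsClosedImmersion.of_comp σ' ν
    have hcl' : IsClopen (Set.range σ') :=
      ⟨σ'.isClosedEmbedding.isClosed_range, σ'.isOpenMap.isOpen_range⟩
    have hE : IsClopen (σ ⁻¹' Set.range σ') := hcl'.preimage σ.continuous
    haveI := preconnectedSpace_spec_of_isLocalRing A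
    obtain ⟨a₀, ha₀⟩ := hy
    have ha₀E : a₀ ∈ σ ⁻¹' Set.range σ' := by
      show σ a₀ ∈ Set.range σ'
      rw [ha₀]; exact hy'
    have hEuniv : σ ⁻¹' Set.range σ' = Set.univ := by
      rcases isClopen_iff.mp hE with h | h
      · rw [h] at ha₀E; exact ha₀E.elim
      · exact h
    obtain ⟨pt⟩ : Nonempty ↥(Spec (CommRingCat.of Ω)) :=
      (inferInstance : Nonempty (PrimeSpectrum Ω))
    have hs : σ (t pt) ∈ Set.range σ' := by
      have h1 : t pt ∈ σ ⁻¹' Set.range σ' := by rw [hEuniv]; trivial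
      exact h1
    obtain ⟨y'', hy''⟩ := π.surjective (σ (t pt))
    have hh : (π ≫ ν) y'' = t pt := by
      rw [Scheme.Hom.comp_apply, hy'', ← Scheme.Hom.comp_apply, hσ]
      try rfl
    obtain ⟨p, hp1, hp2⟩ := Scheme.exists_preimage_of_isPullback hP y'' pt hh
    have hq : (φ ≫ π) p = σ (t pt) := by
      rw [Scheme.Hom.comp_apply, show φ p = y'' from hp1, hy'']
    have hpT : p ∈ T' := by
      apply hV
      show (φ ≫ π) p ∈ Set.range σ
      rw [hq]; exact ⟨t pt, rfl⟩
    have hpT' : p ∈ T'ᶜ := by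
      apply hV'
      show (φ ≫ π) p ∈ Set.range σ'
      rw [hq]; exact hs
    exact hpT' hpT
  refine ⟨F T', ⟨?_, hopen T'⟩, ?_⟩
  · rw [← isOpen_compl_iff]
    have hcompl : (F T')ᶜ = F T'ᶜ := by
      ext y
      constructor
      · intro hy
        exact (hcover y).resolve_left hy
      · intro hy2 hy1
        exact hdisj y hy1 hy2
    rw [hcompl]
    exact hopen T'ᶜ
  · ext a
    constructor
    · intro ha
      obtain ⟨σ, hσ, hy, hV⟩ := (hF T' (φ a)).mp ha
      apply hV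
      show (φ ≫ π) a ∈ Set.range σ
      rw [Scheme.Hom.comp_apply]; exact hy
    · intro ha
      rcases hcover (φ a) with h | h
      · exact h
      · obtain ⟨σ, hσ, hy, hV⟩ := (hF T'ᶜ (φ a)).mp h
        have h1 : a ∈ T'ᶜ := by
          apply hV
          show (φ ≫ π) a ∈ Set.range σ
          rw [Scheme.Hom.comp_apply]; exact hy
        exact absurd ha h1

end Fibre

section Main

theorem key_pullback {X Y S : Scheme.{u}} (Ω : Type u) [Field Ω] (f : X ⟶ S)
    (t : Spec (CommRingCat.of Ω) ⟶ S) (g : Y ⟶ X) :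
    IsPullback (pullback.fst g (pullback.fst f t))
      (pullback.snd g (pullback.fst f t) ≫ pullback.snd f t) (g ≫ f) t :=
  (IsPullback.of_hasPullback g (pullback.fst f t)).paste_vert (IsPullback.of_hasPullback f t)

theorem key_inj (A : Type u) [CommRing A] [IsLocalRing A] {X Y : Scheme.{u}}
    (f : X ⟶ Spec (CommRingCat.of A)) [IsProper f] [Flat f] [LocallyOfFinitePresentation f]
    (Ω : Type u) [Field Ω] (t : Spec (CommRingCat.of Ω) ⟶ Spec (CommRingCat.of A))
    (g : Y ⟶ X) (hgf : IsFinite g) (hge : Etale g) (T : Set Y) (hT : IsClopen T)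
    (hpre : (pullback.fst g (pullback.fst f t)) ⁻¹' T = Set.univ) : T = Set.univ := by
  haveI := hgf
  haveI := hge
  haveI : UniversallyClosed (g ≫ f) := inferInstance
  haveI : Flat (g ≫ f) := inferInstance
  haveI : LocallyOfFinitePresentation (g ≫ f) := inferInstance
  haveI : UniversallyOpen (g ≫ f) := inferInstance
  exact clopen_inj_aux A Ω (g ≫ f) t _ _ (key_pullback Ω f t g) T hT hpre

theorem key_surj (A : Type u) [CommRing A] [HenselianLocalRing A]
    [IsSepClosed (IsLocalRing.ResidueField A)] {X Y : Scheme.{u}}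
    (f : X ⟶ Spec (CommRingCat.of A)) [IsProper f] [Flat f] [LocallyOfFinitePresentation f]
    (hfib : ∀ (Ω : Type u) [Field Ω] [IsAlgClosed Ω]
      (s : Spec (CommRingCat.of Ω) ⟶ Spec (CommRingCat.of A)),
      ConnectedSpace ↥(pullback f s) ∧ IsReduced (pullback f s))
    (Ω : Type u) [Field Ω] [IsAlgClosed Ω]
    (t : Spec (CommRingCat.of Ω) ⟶ Spec (CommRingCat.of A))
    (g : Y ⟶ X) (hgf : IsFinite g) (hge : Etale g)
    (T' : Set ↥(pullback g (pullback.fst f t))) (hT' : IsClopen T') :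
    ∃ T : Set Y, IsClopen T ∧ (pullback.fst g (pullback.fst f t)) ⁻¹' T = T' := by
  haveI := hgf
  haveI := hge
  haveI : IsProper (g ≫ f) := inferInstance
  haveI : Flat (g ≫ f) := inferInstance
  haveI : LocallyOfFinitePresentation (g ≫ f) := inferInstance
  have hred : ∀ (Ω' : Type u) [Field Ω'] [IsAlgClosed Ω']
      (τ : Spec (CommRingCat.of Ω') ⟶ Spec (CommRingCat.of A)),
      IsReduced (pullback (g ≫ f) τ) := by
    intro Ω' _ _ τ
    haveI := (hfib Ω' τ).2
    exact Groth.Agent.Helper7.FEtDesc.isReduced_pullback_comp_etale f g τ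
  have het := Groth.Agent.Helper7.FEtDesc.etale_fibres_of_reduced (g ≫ f) hred
  obtain ⟨hνfin, hνet⟩ := isFinite_etale_fromNormalization (g ≫ f) het
  haveI := hνfin
  haveI := hνet
  haveI hgc : GeometricallyConnected (g ≫ f).toNormalization :=
    Groth.Agent.Helper7.FEtDesc.geometricallyConnected_toNormalization_of_etale (g ≫ f) het
  have hP : IsPullback (pullback.fst g (pullback.fst f t))
      (pullback.snd g (pullback.fst f t) ≫ pullback.snd f t)
      ((g ≫ f).toNormalization ≫ (g ≫ f).fromNormalization) t := by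
    rw [(g ≫ f).toNormalization_fromNormalization]
    exact key_pullback Ω f t g
  exact clopen_surj_aux A Ω (g ≫ f).toNormalization (g ≫ f).fromNormalization t _ _ hP T' hT'

theorem main (A : Type u) [CommRing A] [HenselianLocalRing A]
    [IsSepClosed (IsLocalRing.ResidueField A)] {X : Scheme.{u}}
    (f : X ⟶ Spec (CommRingCat.of A)) [IsProper f] [Flat f] [LocallyOfFinitePresentation f]
    (hfib : ∀ (Ω : Type u) [Field Ω] [IsAlgClosed Ω]
      (s : Spec (CommRingCat.of Ω) ⟶ Spec (CommRingCat.of A)),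
      ConnectedSpace ↥(pullback f s) ∧ IsReduced (pullback f s))
    (Ω : Type u) [Field Ω] [IsAlgClosed Ω]
    (t : Spec (CommRingCat.of Ω) ⟶ Spec (CommRingCat.of A)) :
    (FEt.restrict (pullback.fst f t)).Full ∧ (FEt.restrict (pullback.fst f t)).Faithful := by
  apply H9FE.restrict_full_faithful_of_clopen (pullback.fst f t)
  · intro Y T hT hpre
    exact key_inj A f Ω t Y.hom Y.prop.1 Y.prop.2 T hT hpre
  · intro W T' hT'
    exact key_surj A f hfib Ω t W.hom W.prop.1 W.prop.2 T' hT'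

end Main

end Groth.Agent.Helper7.FEtGeomFib
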